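import Cfsg.Agent.Lib.ToddCox.Glue
set_option autoImplicit false
set_option maxRecDepth 100000
namespace Cfsg.Agent.Lib.ToddCox.J1C2
def E_0 : ℕ := 0x30000000c00000c00000030000050400001400001410000050000040800001000001020000040000050000001000001000000050000030800000c00000c20000030000000400000000000010000000000000000000000000000000000000020800001400001420000020000020400001000001010000020000010400000c00000c1000001000001000000080000080000001000000080000040000042000000
end Cfsg.Agent.Lib.ToddCox.J1C2
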