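import Cfsg.Agent.Lib.ToddCox.J1C2.Data
set_option autoImplicit false
set_option maxRecDepth 100000
namespace Cfsg.Agent.Lib.ToddCox.J1C2
theorem wordsGood : allBelow (wordsOK W (relR Rb inv) inv sp) nW 3 = true := by decide +kernel
theorem d0 : allBits (fun k => bif Nat.blt k 5 then chkDef Eo inv k else true) 13 0 = true := by decide +kernel
theorem s0 : chkStream Eo inv W isH 7 5 0x100000060000090000088000018000004000000000005800000400000a000004000008800001800000400000000000500000300000140000010000018000024000006000010000004000000800000000000a000000800000c0000120000110000010000020000004000000000006800002c00001a00000b000000800000c00000e000001000002000000000001a0000010000028000003ffffffffffff = true := by decide +kernel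
theorem c0 : Covered Eo inv W isH 5 12 := covered_of_stream 7 5 _ s0
theorem l0 : chkPoints Eo cF (2 * nEv) N ys 6 0 0x4800000800002a00000500000800000100000260000040000038000008000022000005000007800000c00000a00000100000b800000c0000100000050000030000010000006000001000000800000000000800000300000100000080000000000010000060000000000014000000 = true := by decide +kernel
theorem k0 : LinksOK Eo cF (2 * nEv) N ys 0 6 := linksOK_of_points 6 0 _ l0
end Cfsg.Agent.Lib.ToddCox.J1C2
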